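import Cfsg.Agent.Lib.Fusion.RankTwoReal.FrameQuaternion
import Cfsg.Agent.S0016
import Cfsg.Prelude.Def_CaseTheorems

/-!
Automorphisms of 2-groups of 2-rank one.

Blueprint: `blueprint/bender/S3109.md`.
-/

set_option autoImplicit false
set_option linter.unusedSectionVars false
set_option linter.style.haveILetI false

namespace CfsgLib.ConstrainedCore

open Cfsg QuaternionGroup

theorem isPGroup_mulAut_quaternion {n : ℕ} (hn : 2 ≤ n) : IsPGroup 2 (MulAut (QuaternionGroup (2 ^ n))) := by
  haveI : NeZero (2 ^ n) := ⟨pow_ne_zero _ two_ne_zero⟩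
  haveI : NeZero (2 * 2 ^ n) := ⟨mul_ne_zero two_ne_zero (pow_ne_zero _ two_ne_zero)⟩
  have hP : IsPGroup 2 (QuaternionGroup (2 ^ n)) := IsPGroup.of_card (n := n + 2) (by
    rw [Nat.card_eq_fintype_card, QuaternionGroup.card]; ring)
  have h4 : 4 ≤ 2 ^ n := le_trans (le_of_eq (by norm_num : 4 = 2 ^ 2)) (Nat.pow_le_pow_right (by norm_num) hn)
  refine CfsgLib.Wr.isPGroup_mulAut_of fun α hα => ?_
  have ha : α (a 1) = a 1 := by
    refine CfsgLib.Wr.fix_of_mem_zpowers hP hα _ ?_
    have ho : orderOf (α (a 1)) = 2 * 2 ^ n := by rw [MulEquiv.orderOf_eq, orderOf_a_one]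
    cases h : α (a 1) with
    | a j =>
      exact ⟨(j.val : ℤ), by show (a 1 : QuaternionGroup (2 ^ n)) ^ (j.val : ℤ) = a j; rw [zpow_natCast, a_one_pow, ZMod.natCast_zmod_val]⟩
    | xa i =>
      rw [h, orderOf_xa] at ho
      omega
  have hall : ∀ j, α (a j) = a j := fun j => by
    have e : a j = (a 1 : QuaternionGroup (2 ^ n)) ^ j.val := by rw [a_one_pow, ZMod.natCast_zmod_val]
    rw [e, map_pow, ha]
  obtain ⟨i, hi⟩ : ∃ i, α (xa 0) = xa i := by
    cases h : α (xa 0) with
    | a j => exact absurd (α.injective (h.trans (hall j).symm)) (by simp)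
    | xa i => exact ⟨i, rfl⟩
  have hxa : ∀ j, α (xa j) = xa (i + j) := fun j => by
    have e : xa j = (xa 0 : QuaternionGroup (2 ^ n)) * a j := by rw [xa_mul_a, zero_add]
    rw [e, map_mul, hi, hall, xa_mul_a]
  have hk : ∀ k : ℕ, (α ^ k) (xa 0) = xa ((k : ZMod (2 * 2 ^ n)) * i) := by
    intro k
    induction k with
    | zero => simp
    | succ k ih =>
      rw [pow_succ', MulAut.mul_apply, ih, hxa, Nat.cast_succ]
      congr 1
      ring
  have hi0 : i = 0 := by
    have h1 := hk (orderOf α)
    rw [pow_orderOf_eq_one, MulAut.one_apply, xa.injEq] at h1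
    have hu : IsUnit ((orderOf α : ℕ) : ZMod (2 * 2 ^ n)) := (ZMod.isUnit_iff_coprime _ _).mpr (by
      rw [show 2 * 2 ^ n = 2 ^ (n + 1) by ring]
      exact hα.pow_right _)
    exact (hu.mul_right_eq_zero).mp h1.symm
  refine MulEquiv.ext fun x => ?_
  cases x with
  | a j => exact hall j
  | xa j => rw [hxa, hi0, zero_add]; rfl

/-- A 2-group of 2-rank one has a 2-group of automorphisms or is the quaternion group of order eight. -/
theorem rank_one_aut {P : Type*} [Group P] [Finite P] (hP : IsPGroup 2 P) (h : PRankLE 2 1 P) :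
    IsPGroup 2 (MulAut P) ∨ Nonempty (P ≃* QuaternionGroup 2) := by
  haveI : Fact (Nat.Prime 2) := ⟨Nat.prime_two⟩
  have huniq : ∀ H K : Subgroup P, Nat.card H = 2 → Nat.card K = 2 → H = K := by
    intro H K hH hK
    by_contra hne
    obtain ⟨z, hzC, hz⟩ : ∃ z ∈ Subgroup.center P, orderOf z = 2 := by
      haveI : Nontrivial P := by
        obtain ⟨x, hx⟩ := exists_prime_orderOf_dvd_card' (G := H) 2 (dvd_of_eq hH.symm)
        exact nontrivial_of_ne (x : P) 1 fun e => by
          rw [← Subgroup.orderOf_coe, e, orderOf_one] at hx; norm_num at hx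
      haveI := hP.center_nontrivial
      obtain ⟨m, hm, hc⟩ := (hP.to_subgroup (Subgroup.center P)).nontrivial_iff_card.mp inferInstance
      obtain ⟨z, hz⟩ := exists_prime_orderOf_dvd_card' (G := Subgroup.center P) 2 (hc ▸ dvd_pow_self 2 hm.ne')
      exact ⟨z, z.2, (Subgroup.orderOf_coe z).trans hz⟩
    have key : ∀ U : Subgroup P, Nat.card U = 2 → U = Subgroup.zpowers z := by
      intro U hU
      obtain ⟨x, hx⟩ := exists_prime_orderOf_dvd_card' (G := U) 2 (dvd_of_eq hU.symm)
      have hxo : orderOf (x : P) = 2 := (Subgroup.orderOf_coe x).trans hx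
      have hUx : Subgroup.zpowers (x : P) = U := Subgroup.eq_of_le_of_card_ge (Subgroup.zpowers_le.mpr x.2)
        (by rw [Nat.card_zpowers, hxo, hU])
      by_contra hUz
      set A := U ⊔ Subgroup.zpowers z with hA
      have hcomm : IsMulCommutative A := by
        rw [hA, ← hUx, Subgroup.zpowers_eq_closure, Subgroup.zpowers_eq_closure, ← Subgroup.closure_union]
        exact Subgroup.isMulCommutative_closure (by
          rintro a (rfl | rfl) b (rfl | rfl)
          · rfl
          · exact Subgroup.mem_center_iff.mp hzC _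
          · exact (Subgroup.mem_center_iff.mp hzC _).symm
          · rfl)
      have hexp : ∀ a ∈ A, a ^ 2 = 1 := by
        intro a ha
        haveI : (Subgroup.zpowers z).Normal := ⟨fun b hb g => by
          obtain ⟨k, rfl⟩ := hb
          have := Subgroup.mem_center_iff.mp ((Subgroup.center P).zpow_mem hzC k) g
          rw [this, mul_inv_cancel_right]
          exact ⟨k, rfl⟩⟩
        obtain ⟨u, hu, w, hw, rfl⟩ := Subgroup.mem_sup_of_normal_right.mp ha
        obtain ⟨k, rfl⟩ := hw
        have hu2 : u ^ 2 = 1 := congrArg Subtype.val (show (⟨u, hu⟩ : U) ^ 2 = 1 from hU ▸ pow_card_eq_one')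
        have hc : Commute u (z ^ k) := Subgroup.mem_center_iff.mp ((Subgroup.center P).zpow_mem hzC k) u
        have hz2 : (z ^ k) ^ 2 = 1 := by
          rw [← zpow_natCast (z ^ k), ← zpow_mul, mul_comm, zpow_mul, zpow_natCast, ← hz, pow_orderOf_eq_one, one_zpow]
        rw [hc.mul_pow, hu2, hz2, one_mul]
      have h2 := h A hcomm hexp
      have hle : U ≤ A := le_sup_left
      have hlt : U ≠ A := fun e => hUz (Subgroup.eq_of_le_of_card_ge
        (e ▸ le_sup_right : Subgroup.zpowers z ≤ U) (by rw [Nat.card_zpowers, hz, hU])).symm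
      have := Subgroup.card_le_of_le hle
      rw [hU] at this
      exact hlt (Subgroup.eq_of_le_of_card_ge hle (by rw [hU]; simpa using h2))
    exact hne ((key H hH).trans (key K hK).symm)
  rcases Cfsg.Agent.S0016.result 2 hP huniq with hc | ⟨-, n, ⟨e⟩⟩
  · haveI := hc
    exact Or.inl (Cfsg.FusionSystem.RankTwo.isPGroup_mulAut_of_cyclic hP)
  · rcases Nat.lt_or_ge n 2 with hlt | hge
    · interval_cases n
      · left
        haveI : IsCyclic (QuaternionGroup (2 ^ 0)) :=
          isCyclic_of_orderOf_eq_card (QuaternionGroup.xa 0)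
            (by rw [QuaternionGroup.orderOf_xa, Nat.card_eq_fintype_card, QuaternionGroup.card]; norm_num)
        haveI : IsCyclic P := e.isCyclic.mpr inferInstance
        exact Cfsg.FusionSystem.RankTwo.isPGroup_mulAut_of_cyclic hP
      · exact Or.inr ⟨e⟩
    · exact Or.inl ((isPGroup_mulAut_quaternion hge).of_equiv (MulAut.congr e).symm)

end CfsgLib.ConstrainedCore
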