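import Cfsg.Agent.Lib.ConstrainedCore.Main

/-!
The base from a normal abelian subgroup of rank at least three of a Sylow 2-subgroup.

Blueprint: `blueprint/bender/S3109.md`.
-/

set_option autoImplicit false
set_option linter.unusedSectionVars false

namespace CfsgLib.ConstrainedCore

open Cfsg Subgroup CfsgLib.TwoLocalSignalizer

universe u

variable {G : Type u} [Group G] [Finite G]

theorem exists_base (S : Sylow 2 G) (A : Subgroup G) (hAS : A ≤ (S : Subgroup G))
    (hAn : (A.subgroupOf S).Normal) (hAc : IsMulCommutative A) (hA3 : ¬ PRankLE 2 2 A) :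
    ∃ E : Subgroup G, Base S E := by
  have hcomm : ∀ a ∈ A, ∀ b ∈ A, a * b = b * a := fun a ha b hb =>
    congrArg Subtype.val (hAc.is_comm.comm ⟨a, ha⟩ ⟨b, hb⟩)
  let E : Subgroup G :=
    { carrier := {a | a ∈ A ∧ a ^ 2 = 1}
      one_mem' := ⟨one_mem A, one_pow 2⟩
      mul_mem' := fun {a b} ha hb => ⟨mul_mem ha.1 hb.1, by
        rw [Commute.mul_pow (hcomm a ha.1 b hb.1), ha.2, hb.2, one_mul]⟩
      inv_mem' := fun {a} ha => ⟨inv_mem ha.1, by rw [inv_pow, ha.2, inv_one]⟩ }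
  have hEA : E ≤ A := fun a ha => ha.1
  refine ⟨E, hEA.trans hAS, fun s hs => CfsgLib.Bender.TwoClosed.mem_normalizer_of_conj fun a ha => ⟨?_, ?_⟩,
    ⟨⟨⟨fun a b => Subtype.ext (hcomm a a.2.1 b b.2.1)⟩⟩, fun a ha => ha.2⟩, ?_⟩
  · exact hAn.conj_mem (⟨a, hAS ha.1⟩ : (S : Subgroup G)) ha.1 ⟨s, hs⟩
  · rw [conj_pow, ha.2, mul_one, mul_inv_cancel]
  · refine eight_le_of_four_lt ((S.isPGroup').to_le (hEA.trans hAS)) ?_
    by_contra hle
    refine hA3 fun B _ hB2 => ?_
    have h1 : B.map A.subtype ≤ E := by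
      rintro _ ⟨b, hb, rfl⟩
      exact ⟨b.2, congrArg Subtype.val (hB2 b hb)⟩
    have := Subgroup.card_le_of_le h1
    rw [Subgroup.card_map_of_injective A.subtype_injective] at this
    omega

theorem normalizer_zpowers {t : G} (ht : orderOf t = 2) :
    normalizer (zpowers t : Set G) = centralizer ({t} : Set G) := by
  ext g
  have h2 : ∀ x ∈ zpowers t, x = 1 ∨ x = t := by
    rintro _ ⟨i, rfl⟩
    rcases Int.emod_two_eq i with h | h
    · exact Or.inl (by show t ^ i = 1; rw [← zpow_mod_orderOf, ht, Nat.cast_ofNat, h, zpow_zero])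
    · exact Or.inr (by show t ^ i = t; rw [← zpow_mod_orderOf, ht, Nat.cast_ofNat, h, zpow_one])
  rw [mem_centralizer_singleton_iff]
  constructor
  · intro hg
    rcases h2 _ ((mem_normalizer_iff.mp hg t).mp (mem_zpowers t)) with h | h
    · rw [conj_eq_one_iff] at h
      rw [h, mul_one, one_mul]
    · exact mul_inv_eq_iff_eq_mul.mp h
  · intro hg
    refine CfsgLib.Bender.TwoClosed.mem_normalizer_of_conj ?_
    rintro _ ⟨i, rfl⟩
    refine ⟨i, ?_⟩
    show t ^ i = g * t ^ i * g⁻¹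
    rw [((show Commute g t from hg).zpow_right i).eq, mul_inv_cancel_right]

theorem rank_le_of_equiv {X Y : Type*} [Group X] [Group Y] {k : ℕ} (e : X ≃* Y) (h : PRankLE 2 k Y) :
    PRankLE 2 k X := fun C hC hC2 => by
  have := h (C.map e.toMonoidHom) ⟨⟨by
    rintro ⟨_, x, hx, rfl⟩ ⟨_, y, hy, rfl⟩
    refine Subtype.ext ?_
    show e x * e y = e y * e x
    rw [← map_mul, ← map_mul, show x * y = y * x from congrArg Subtype.val (hC.is_comm.comm ⟨x, hx⟩ ⟨y, hy⟩)]⟩⟩
    (by rintro _ ⟨x, hx, rfl⟩; rw [← map_pow, hC2 x hx, map_one])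
  rwa [Subgroup.card_map_of_injective e.injective] at this

end CfsgLib.ConstrainedCore
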