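import Cfsg.Agent.Lib.ConstrainedCore.Aut
import Cfsg.Agent.Lib.TwoLocalSignalizer.Main
import Cfsg.Agent.Lib.ChzTwoNil.Basic
import Cfsg.Agent.Lib.Bender.Assembly
import Cfsg.Agent.Lib.Signalizer.Connectivity

/-!
Constrained involution centralisers and a normal elementary abelian subgroup of order eight of a Sylow 2-subgroup:
over Bender's theorem all cores of involution centralisers of a core-free group are trivial.

Blueprint: `blueprint/bender/S3109.md`.
-/

set_option autoImplicit false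
set_option linter.unusedSectionVars false
set_option linter.style.haveILetI false

namespace CfsgLib.ConstrainedCore

open Cfsg Subgroup CfsgLib.TwoLocalSignalizer CfsgLib.Signalizer

universe u

variable {G : Type u} [Group G] [Finite G]

/-- The data: a Sylow 2-subgroup with a normal elementary abelian subgroup of order at least eight. -/
structure Base (S : Sylow 2 G) (E : Subgroup G) : Prop where
  le : E ≤ (S : Subgroup G)
  norm : (S : Subgroup G) ≤ normalizer (E : Set G)
  ea : IsElementaryAbelian 2 E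
  eight : 8 ≤ Nat.card E

theorem mem_smul {S : Sylow 2 G} {g x : G} : x ∈ ((g • S : Sylow 2 G) : Subgroup G) ↔ g⁻¹ * x * g ∈ (S : Subgroup G) := by
  rw [Sylow.coe_subgroup_smul, Subgroup.mem_pointwise_smul_iff_inv_smul_mem, MulAut.smul_def, MulAut.conj_inv_apply]

theorem not_rank_one {A B : Subgroup G} (hA : IsElementaryAbelian 2 A) (h4 : 4 ≤ Nat.card A) (hAB : A ≤ B) :
    ¬ PRankLE 2 1 ↥B := by
  intro h
  have h1 := h (A.subgroupOf B)
    ⟨⟨fun x y => Subtype.ext (Subtype.ext (ea_comm hA x.2 y.2))⟩⟩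
    (fun x hx => Subtype.ext (by simpa using hA.2 _ hx))
  rw [Nat.card_congr (Subgroup.subgroupOfEquivOfLe hAB).toEquiv] at h1
  omega

theorem isEA_map {A : Subgroup G} (hA : IsElementaryAbelian 2 A) (g : G) :
    IsElementaryAbelian 2 (A.map (MulAut.conj g).toMonoidHom) := by
  refine ⟨⟨⟨?_⟩⟩, ?_⟩
  · rintro ⟨_, x, hx, rfl⟩ ⟨_, y, hy, rfl⟩
    refine Subtype.ext ?_
    show MulAut.conj g x * MulAut.conj g y = MulAut.conj g y * MulAut.conj g x
    rw [← map_mul, ← map_mul, ea_comm hA hx hy]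
  · rintro _ ⟨x, hx, rfl⟩
    rw [← map_pow, hA.2 x hx, map_one]

theorem map_Wf_eq (g : G) (B : Subgroup G) :
    (Wf B).map (MulAut.conj g).toMonoidHom = Wf (B.map (MulAut.conj g).toMonoidHom) := by
  refine le_antisymm (map_Wf_le g fun x hx => ⟨x, hx, rfl⟩) fun y hy => ?_
  refine ⟨g⁻¹ * y * g⁻¹⁻¹, map_Wf_le g⁻¹ ?_ ⟨y, hy, rfl⟩, by simp [mul_assoc]⟩
  rintro _ ⟨x, hx, rfl⟩
  simpa [mul_assoc] using hx

variable {S : Sylow 2 G} {E : Subgroup G} (hcon : Hyp G) (hb : Base S E)
include hcon hb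

/-- The odd subgroup attached to each Sylow 2-subgroup. -/
theorem piece (T : Sylow 2 G) : Odd (Nat.card (Wf (T : Subgroup G))) ∧
    ∀ B : Subgroup G, B ≤ (T : Subgroup G) → ¬ PRankLE 2 1 ↥B →
      Wf B = Wf (T : Subgroup G) ∧ normalizer (B : Set G) ≤ normalizer (Wf (T : Subgroup G) : Set G) := by
  haveI : Fact (Nat.Prime 2) := ⟨Nat.prime_two⟩
  obtain ⟨g, rfl⟩ := MulAction.exists_smul_eq G S T
  set E' := E.map (MulAut.conj g).toMonoidHom with hE'
  have hle : E' ≤ ((g • S : Sylow 2 G) : Subgroup G) := by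
    rintro _ ⟨x, hx, rfl⟩
    refine mem_smul.mpr ?_
    simpa [mul_assoc] using hb.le hx
  have hn : ((g • S : Sylow 2 G) : Subgroup G) ≤ normalizer (E' : Set G) := by
    intro s hs
    refine CfsgLib.Bender.TwoClosed.mem_normalizer_of_conj ?_
    rintro _ ⟨x, hx, rfl⟩
    exact ⟨g⁻¹ * s * g * x * (g⁻¹ * s * g)⁻¹,
      (mem_normalizer_iff.mp (hb.norm (mem_smul.mp hs)) x).mp hx, by simp [mul_assoc]⟩
  have h8 : 8 ≤ Nat.card E' := by
    rw [hE', Subgroup.card_map_of_injective (MulAut.conj g).injective]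
    exact hb.eight
  obtain ⟨W, hW, hB⟩ := exists_odd_generated hcon (g • S) hle hn (isEA_map hb.ea g) h8
  have e := (hB _ le_rfl (not_rank_one (isEA_map hb.ea g) (le_trans (by norm_num) h8) hle)).1
  rw [← e]
  exact ⟨hW, fun B hBT hBr => ⟨(hB B hBT hBr).1.symm, (hB B hBT hBr).2⟩⟩

/-- Involutions centralise elementary abelian subgroups of order eight. -/
theorem exists_eight {t : G} (htS : t ∈ (S : Subgroup G)) (ht : orderOf t = 2) :
    ∃ A : Subgroup G, A ≤ (S : Subgroup G) ⊓ centralizer ({t} : Set G) ∧ IsElementaryAbelian 2 A ∧ 8 ≤ Nat.card A ∧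
      t ∈ (S : Subgroup G) ⊓ centralizer ({t} : Set G) := by
  haveI : Fact (Nat.Prime 2) := ⟨Nat.prime_two⟩
  have htt : t * t = 1 := by rw [← pow_two, ← ht, pow_orderOf_eq_one]
  have htC : t ∈ (S : Subgroup G) ⊓ centralizer ({t} : Set G) := ⟨htS, mem_centralizer_singleton_iff.mpr rfl⟩
  by_cases htE : t ∈ E
  · exact ⟨E, fun x hx => ⟨hb.le hx, mem_centralizer_singleton_iff.mpr (ea_comm hb.ea hx htE)⟩, hb.ea, hb.eight, htC⟩
  set F := E ⊓ centralizer ({t} : Set G) with hF
  have hF4 : 4 ≤ Nat.card F := four_le_fixed hb.ea hb.eight htt fun x hx =>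
    (mem_normalizer_iff.mp (hb.norm htS) x).mp hx
  refine ⟨zpowers t ⊔ F, sup_le (zpowers_le.mpr htC) fun x hx => ⟨hb.le hx.1, hx.2⟩, ?_, ?_, htC⟩
  · refine CfsgLib.Connectivity.elem_sup ?_ (CfsgLib.Connectivity.elem_mono hb.ea inf_le_left) ?_
    · refine ⟨inferInstance, ?_⟩
      rintro _ ⟨k, rfl⟩
      rw [← zpow_natCast (t ^ k), ← zpow_mul, mul_comm, zpow_mul, zpow_natCast, pow_two, htt, one_zpow]
    · rintro _ ⟨k, rfl⟩ y hy
      exact ((show Commute t y from (mem_centralizer_singleton_iff.mp hy.2).symm).zpow_left k).eq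
  · refine eight_le_of_four_lt ((S.isPGroup').to_le (sup_le (zpowers_le.mpr htS) (inf_le_left.trans hb.le))) ?_
    by_contra hle
    push Not at hle
    have h := Subgroup.eq_of_le_of_card_ge (le_sup_right : F ≤ zpowers t ⊔ F) (hle.trans hF4)
    exact htE (h.ge (mem_sup_left (mem_zpowers t))).1

theorem core_le {t : G} (htS : t ∈ (S : Subgroup G)) (ht : orderOf t = 2) :
    centralizerPPrimeCore 2 t ≤ Wf (S : Subgroup G) :=
  core_le_Wf htS fun e => by rw [e, orderOf_one] at ht; norm_num at ht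

/-- The centraliser of an involution of a Sylow subgroup normalises its odd subgroup. -/
theorem cent_le {t : G} (htS : t ∈ (S : Subgroup G)) (ht : orderOf t = 2) :
    centralizer ({t} : Set G) ≤ normalizer (Wf (S : Subgroup G) : Set G) := by
  haveI : Fact (Nat.Prime 2) := ⟨Nat.prime_two⟩
  obtain ⟨A, hAB, hA, hA8, htB⟩ := exists_eight hcon hb htS ht
  set L := centralizer ({t} : Set G) with hL
  set B := (S : Subgroup G) ⊓ L with hB
  set M := pPrimePCore 2 L with hM
  haveI : M.Normal := Subgroup.normal_comap _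
  obtain ⟨P₀⟩ : Nonempty (Sylow 2 M) := inferInstance
  set P := (P₀ : Subgroup M).map M.subtype with hP
  obtain ⟨T, hPT⟩ := (P₀.2.map M.subtype).exists_le_sylow
  obtain ⟨T₁, hBT⟩ := ((S.isPGroup'.to_le inf_le_left : IsPGroup 2 B).comap_subtype (K := L)).exists_le_sylow
  obtain ⟨l, hl⟩ := MulAction.exists_smul_eq L T T₁
  obtain ⟨S', hTS⟩ := (T.2.map L.subtype).exists_le_sylow
  obtain ⟨-, hpiece⟩ := piece hcon hb S'
  obtain ⟨-, hpS⟩ := piece hcon hb S
  set W' := Wf (S' : Subgroup G) with hW'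
  set W := Wf (S : Subgroup G) with hW
  set B' := B.map (MulAut.conj (l : G)⁻¹).toMonoidHom with hB'
  have hB'T : ∀ (x : G) (hx : x ∈ B), (⟨(l : G)⁻¹ * x * (l : G)⁻¹⁻¹,
      L.mul_mem (L.mul_mem (L.inv_mem l.2) hx.2) (L.inv_mem (L.inv_mem l.2))⟩ : L) ∈ (T : Subgroup L) := by
    intro x hx
    have h1 : (⟨x, hx.2⟩ : L) ∈ ((l • T : Sylow 2 L) : Subgroup L) := by
      rw [hl]
      exact hBT hx
    rw [Sylow.coe_subgroup_smul, Subgroup.mem_pointwise_smul_iff_inv_smul_mem, MulAut.smul_def,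
      MulAut.conj_inv_apply] at h1
    convert h1 using 1
    exact Subtype.ext (by simp)
  have hB'S : B' ≤ (S' : Subgroup G) := by
    rintro _ ⟨x, hx, rfl⟩
    exact hTS ⟨_, hB'T x hx, rfl⟩
  have hrB : ¬ PRankLE 2 1 ↥B := not_rank_one hA (by omega) hAB
  set A' := A.map (MulAut.conj (l : G)⁻¹).toMonoidHom with hA'
  have hA'B : A' ≤ B' := Subgroup.map_mono hAB
  have hA'8 : 8 ≤ Nat.card A' := by
    rw [hA', Subgroup.card_map_of_injective (MulAut.conj _).injective]
    exact hA8
  have hrB' : ¬ PRankLE 2 1 ↥B' := not_rank_one (isEA_map hA _) (le_trans (by norm_num) hA'8) hA'B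
  have hWW : W.map (MulAut.conj (l : G)⁻¹).toMonoidHom = W' := by
    calc W.map (MulAut.conj (l : G)⁻¹).toMonoidHom = (Wf B).map (MulAut.conj (l : G)⁻¹).toMonoidHom :=
          congrArg _ (hpS B inf_le_left hrB).1.symm
      _ = Wf B' := map_Wf_eq _ _
      _ = W' := (hpiece B' hB'S hrB').1
  have hcore : centralizerPPrimeCore 2 t ≤ W' := by
    rw [← hWW]
    intro x hx
    refine ⟨(l : G) * x * (l : G)⁻¹, core_le hcon hb htS ht
      (CfsgLib.CharTwoEarly.conj_mem_core (mem_centralizer_singleton_iff.mp l.2) hx), by simp [mul_assoc]⟩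
  have hPS : P.map L.subtype ≤ (S' : Subgroup G) := (Subgroup.map_mono hPT).trans hTS
  have hS'W : (S' : Subgroup G) ≤ normalizer (W' : Set G) := by
    have hr : ¬ PRankLE 2 1 ↥(S' : Subgroup G) := not_rank_one (isEA_map hA _) (le_trans (by norm_num) hA'8) (hA'B.trans hB'S)
    exact Subgroup.le_normalizer.trans (hpiece _ le_rfl hr).2
  have hOW : (pPrimeCore 2 L).map L.subtype ≤ normalizer (W' : Set G) := hcore.trans Subgroup.le_normalizer
  suffices hLW : L ≤ normalizer (W' : Set G) by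
    have hl' : (l : G) ∈ normalizer (W' : Set G) := hLW l.2
    have e : W = W' := by
      refine Subgroup.map_injective (f := (MulAut.conj (l : G)⁻¹).toMonoidHom) (MulEquiv.injective _) ?_
      rw [hWW]
      ext x
      constructor
      · intro hx
        refine ⟨(l : G) * x * (l : G)⁻¹, (mem_normalizer_iff.mp hl' x).mp hx, by simp [mul_assoc]⟩
      · rintro ⟨y, hy, rfl⟩
        exact (mem_normalizer_iff.mp (inv_mem hl') y).mp hy
    rw [e]
    exact hLW
  -- the centraliser is the core times the normaliser of `P`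
  have hfr : Subgroup.normalizer (P : Set L) ⊔ M = ⊤ := Sylow.normalizer_sup_eq_top P₀
  have hMP : M ≤ pPrimeCore 2 L ⊔ P := by
    intro m hm
    have hOM : pPrimeCore 2 L ≤ M := fun x hx => by
      rw [hM, pPrimePCore, mem_comap,
        show QuotientGroup.mk' (pPrimeCore 2 L) x = 1 from (QuotientGroup.eq_one_iff x).mpr hx]
      exact one_mem _
    obtain ⟨k, hk⟩ : ∃ k : ℕ, ((pPrimeCore 2 L).subgroupOf M).index = 2 ^ k := by
      have hq : IsPGroup 2 (M.map (QuotientGroup.mk' (pPrimeCore 2 L))) := by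
        rw [hM, pPrimePCore, Subgroup.map_comap_eq_self_of_surjective (QuotientGroup.mk'_surjective _)]
        exact CfsgLib.isPGroup_pCore 2
      obtain ⟨k, hk⟩ := IsPGroup.iff_card.mp hq
      refine ⟨k, ?_⟩
      rw [← hk, ← Subgroup.relIndex_ker, QuotientGroup.ker_mk']
      rfl
    have h1 := ChzTwoNil.sup_sylow_eq_top ((pPrimeCore 2 L).subgroupOf M) hk P₀
    have h2 : (⟨m, hm⟩ : M) ∈ (pPrimeCore 2 L).subgroupOf M ⊔ (P₀ : Subgroup M) := h1 ▸ mem_top _
    have h3 := Subgroup.mem_map_of_mem M.subtype h2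
    rw [Subgroup.map_sup, Subgroup.map_subgroupOf_eq_of_le hOM] at h3
    exact h3
  have hMW : M.map L.subtype ≤ normalizer (W' : Set G) := by
    refine (Subgroup.map_mono hMP).trans ?_
    rw [Subgroup.map_sup]
    exact sup_le hOW (hPS.trans hS'W)
  suffices hNW : (Subgroup.normalizer (P : Set L)).map L.subtype ≤ normalizer (W' : Set G) by
    intro x hx
    have h1 : (⟨x, hx⟩ : L) ∈ Subgroup.normalizer (P : Set L) ⊔ M := hfr ▸ mem_top _
    have h2 := Subgroup.mem_map_of_mem L.subtype h1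
    rw [Subgroup.map_sup] at h2
    exact sup_le hNW hMW h2
  by_cases hr : PRankLE 2 1 ↥P
  swap
  · rintro _ ⟨n, hn, rfl⟩
    have hr' : ¬ PRankLE 2 1 ↥(P.map L.subtype) := fun h => hr fun C hC hC2 => by
      let e := P.equivMapOfInjective L.subtype L.subtype_injective
      have := h (C.map e.toMonoidHom) ⟨⟨by
        rintro ⟨_, x, hx, rfl⟩ ⟨_, y, hy, rfl⟩
        refine Subtype.ext ?_
        show e x * e y = e y * e x
        rw [← map_mul, ← map_mul, show x * y = y * x from congrArg Subtype.val (hC.is_comm.comm ⟨x, hx⟩ ⟨y, hy⟩)]⟩⟩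
        (by rintro _ ⟨x, hx, rfl⟩; rw [← map_pow, hC2 x hx, map_one])
      rwa [Subgroup.card_map_of_injective e.injective] at this
    refine (hpiece _ hPS hr').2 (CfsgLib.Bender.TwoClosed.mem_normalizer_of_conj ?_)
    rintro _ ⟨p, hp, rfl⟩
    exact ⟨n * p * n⁻¹, (mem_normalizer_iff.mp hn p).mp hp, rfl⟩
  -- the rank one case
  have hPp : IsPGroup 2 P := P₀.2.map M.subtype
  have hTM : ∀ x ∈ (T : Subgroup L), x ∈ M → x ∈ P := by
    intro x hxT hxM
    have h1 : (P₀ : Subgroup M) ≤ (T : Subgroup L).subgroupOf M := fun y hy => hPT ⟨y, hy, rfl⟩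
    have h2 := P₀.is_maximal' T.2.comap_subtype h1
    exact ⟨⟨x, hxM⟩, h2.le (show (⟨x, hxM⟩ : M) ∈ (T : Subgroup L).subgroupOf M from hxT), rfl⟩
  have hTN : (T : Subgroup L) ≤ Subgroup.normalizer (P : Set L) := fun s hs =>
    CfsgLib.Bender.TwoClosed.mem_normalizer_of_conj fun p hp => hTM _
      ((T : Subgroup L).mul_mem ((T : Subgroup L).mul_mem hs (hPT hp)) ((T : Subgroup L).inv_mem hs))
      ((inferInstance : M.Normal).conj_mem p (Subgroup.map_subtype_le _ hp) s)
  have hCM : centralizer (P : Set L) ≤ M := hcon t ht P₀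
  rcases rank_one_aut hPp hr with haut | ⟨⟨e⟩⟩
  · set N := Subgroup.normalizer (P : Set L) with hN
    let φ : N →* MulAut P := P.normalizerMonoidHom
    have hker : φ.ker = (centralizer (P : Set L)).subgroupOf N := P.normalizerMonoidHom_ker
    obtain ⟨k, hk⟩ := IsPGroup.iff_card.mp (haut.to_subgroup φ.range)
    have hki : φ.ker.index = 2 ^ k := by rw [Subgroup.index_ker, hk]
    have h1 := ChzTwoNil.sup_sylow_eq_top φ.ker hki (T.subtype hTN)
    rintro _ ⟨n, hn, rfl⟩
    have h2 : (⟨n, hn⟩ : N) ∈ φ.ker ⊔ ((T.subtype hTN : Sylow 2 N) : Subgroup N) := h1 ▸ mem_top _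
    have h3 := Subgroup.mem_map_of_mem (L.subtype.comp N.subtype) h2
    rw [Subgroup.map_sup] at h3
    refine (show _ ⊔ _ ≤ normalizer (W' : Set G) from sup_le ?_ ?_) h3
    · rintro _ ⟨c, hc, rfl⟩
      rw [hker] at hc
      exact hMW ⟨c, hCM hc, rfl⟩
    · rintro _ ⟨c, hc, rfl⟩
      exact hS'W (hTS ⟨c, hc, rfl⟩)
  · -- the quaternion group of order eight does not occur
    exfalso
    have hA'T : A'.subgroupOf L ≤ (T : Subgroup L) := by
      rintro ⟨x, hxL⟩ ⟨y, hy, hye⟩
      have h1 := hB'T y (hAB hy)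
      convert h1 using 1
      exact Subtype.ext hye.symm
    have hA'L : A' ≤ L := by
      rintro _ ⟨y, hy, rfl⟩
      exact L.mul_mem (L.mul_mem (L.inv_mem l.2) (hAB hy).2) (L.inv_mem (L.inv_mem l.2))
    set PT := P.subgroupOf (T : Subgroup L) with hPT'
    have eP : PT ≃* QuaternionGroup 2 := (Subgroup.subgroupOfEquivOfLe hPT).trans e
    have hcP : centralizer (PT : Set (T : Subgroup L)) ≤ PT := by
      intro x hx
      refine hTM _ x.2 (hCM (Subgroup.mem_centralizer_iff.mpr fun p hp => ?_))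
      exact congrArg Subtype.val (Subgroup.mem_centralizer_iff.mp hx (⟨p, hPT hp⟩ : (T : Subgroup L)) hp)
    haveI hn : PT.Normal := ⟨fun p hp g => (mem_normalizer_iff.mp (hTN g.2) p).mp hp⟩
    let φ : (T : Subgroup L) →* MulAut PT := MulAut.conjNormal
    have hker : φ.ker = centralizer (PT : Set (T : Subgroup L)) := by
      ext x
      rw [MonoidHom.mem_ker, Subgroup.mem_centralizer_iff]
      constructor
      · intro h p hp
        have h' := congrArg Subtype.val (DFunLike.congr_fun h ⟨p, hp⟩)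
        rw [MulAut.conjNormal_apply, MulAut.one_apply] at h'
        exact (mul_inv_eq_iff_eq_mul.mp h').symm
      · intro h
        refine MulEquiv.ext fun p => Subtype.ext ?_
        rw [MulAut.conjNormal_apply, MulAut.one_apply, ← h p p.2, mul_inv_cancel_right]
    have hc2 := Cfsg.FusionSystem.RankTwo.card_centralizer_q8 eP hcP
    have hrange : Nat.card φ.range ≤ 8 := by
      obtain ⟨k, hk⟩ := IsPGroup.iff_card.mp ((T.2 : IsPGroup 2 (T : Subgroup L)).of_surjective
        φ.rangeRestrict φ.rangeRestrict_surjective)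
      have hd := Subgroup.card_subgroup_dvd_card φ.range
      have h24 : Nat.card (MulAut PT) ≤ 24 := Cfsg.FusionSystem.RankTwo.card_mulAut_q8_le eP
      have h3 : 3 ∣ Nat.card (MulAut PT) := by
        rw [Nat.card_congr (MulAut.congr eP).toEquiv]
        exact CfsgLib.Quat.three_dvd_card_aut
      haveI : Finite (MulAut PT) := inferInstance
      have hpos : 0 < Nat.card (MulAut PT) := Nat.card_pos
      by_contra hlt
      push Not at hlt
      rw [hk] at hlt hd
      have h16 : 16 ∣ Nat.card (MulAut PT) := (pow_dvd_pow 2 (show 4 ≤ k by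
        by_contra hk4
        have : 2 ^ k ≤ 2 ^ 3 := Nat.pow_le_pow_right (by norm_num) (by omega)
        omega)).trans hd
      have := Nat.le_of_dvd hpos ((show Nat.Coprime 16 3 by norm_num).mul_dvd_of_dvd_of_dvd h16 h3)
      omega
    have hT16 : Nat.card (T : Subgroup L) ≤ 16 := by
      have h1 := φ.ker.index_mul_card
      rw [Subgroup.index_ker, hker, hc2] at h1
      omega
    set AT := (A'.subgroupOf L).subgroupOf (T : Subgroup L) with hAT
    have hAT8 : 8 ≤ Nat.card AT := by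
      rw [hAT, Nat.card_congr (Subgroup.subgroupOfEquivOfLe hA'T).toEquiv,
        Nat.card_congr (Subgroup.subgroupOfEquivOfLe hA'L).toEquiv]
      exact hA'8
    have hP8 : Nat.card PT = 8 := (Nat.card_congr eP.toEquiv).trans (by rw [Nat.card_eq_fintype_card]; rfl)
    have hint : Nat.card ↥(AT ⊓ PT) ≤ 2 := by
      have h1 : Nat.card ↥(AT ⊓ PT) ≤ Fintype.card {q : QuaternionGroup 2 // q * q = 1} := by
        rw [← Nat.card_eq_fintype_card]
        refine Nat.card_le_card_of_injective (fun x : ↥(AT ⊓ PT) => (⟨eP ⟨x.1, x.2.2⟩, by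
          rw [← map_mul, ← map_one eP]
          congr 1
          refine Subtype.ext (Subtype.ext (Subtype.ext ?_))
          have := (isEA_map hA (l : G)⁻¹).2 _ x.2.1
          simpa [pow_two] using this⟩ : {q : QuaternionGroup 2 // q * q = 1})) fun a b h => ?_
        exact Subtype.ext (Subtype.ext_iff.mp (eP.injective (congrArg Subtype.val h)) :)
      rwa [show Fintype.card {q : QuaternionGroup 2 // q * q = 1} = 2 by decide] at h1
    -- `AT` maps injectively modulo its intersection with `PT`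
    have h1 : PT.relIndex AT * Nat.card ↥(AT ⊓ PT) = Nat.card AT := by
      have hc : Nat.card ↥(AT ⊓ PT) = Nat.card (PT.subgroupOf AT) := by
        rw [inf_comm, ← Subgroup.subgroupOf_map_subtype, Subgroup.card_map_of_injective AT.subtype_injective]
      rw [hc]
      exact Subgroup.index_mul_card (PT.subgroupOf AT)
    have h2 : PT.relIndex AT ≤ PT.index := Nat.le_of_dvd (Nat.pos_of_ne_zero Subgroup.index_ne_zero_of_finite)
      (Subgroup.relIndex_dvd_index_of_normal _ _)
    have h3 := PT.card_mul_index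
    rw [hP8] at h3
    have h4 := Nat.mul_le_mul h2 hint
    omega

theorem mem_of_conj {g t : G} (htS : t ∈ (S : Subgroup G)) (ht : orderOf t = 2)
    (hu : g * t * g⁻¹ ∈ (S : Subgroup G)) : g ∈ normalizer (Wf (S : Subgroup G) : Set G) := by
  haveI : Fact (Nat.Prime 2) := ⟨Nat.prime_two⟩
  set u := g * t * g⁻¹
  have hu2 : orderOf u = 2 := by rw [CfsgLib.Involutions.orderOf_conj]; exact ht
  obtain ⟨A, hAB, hA, hA8, -⟩ := exists_eight hcon hb htS ht
  obtain ⟨A₂, hAB₂, hA₂, hA₂8, -⟩ := exists_eight hcon hb hu hu2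
  set L := centralizer ({u} : Set G) with hL
  set B := (S : Subgroup G) ⊓ centralizer ({t} : Set G)
  set Bu := (S : Subgroup G) ⊓ L
  have hBg : ∀ x ∈ B, g * x * g⁻¹ ∈ L := fun x hx => mem_centralizer_singleton_iff.mpr (by
    rw [show u = g * t * g⁻¹ from rfl, conj_mul, conj_mul, mem_centralizer_singleton_iff.mp hx.2])
  have hle1 : B.map (MulAut.conj g).toMonoidHom ≤ L := by rintro _ ⟨x, hx, rfl⟩; exact hBg x hx
  obtain ⟨T₀, hT₀⟩ := (((S.isPGroup'.to_le inf_le_left : IsPGroup 2 B).map (MulAut.conj g).toMonoidHom).comap_subtype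
    (K := L)).exists_le_sylow
  obtain ⟨T, hT⟩ := ((S.isPGroup'.to_le inf_le_left : IsPGroup 2 Bu).comap_subtype (K := L)).exists_le_sylow
  obtain ⟨c, hc⟩ := MulAction.exists_smul_eq L T₀ T
  obtain ⟨S', hS'⟩ := (T.2.map L.subtype).exists_le_sylow
  obtain ⟨-, hpS⟩ := piece hcon hb S
  obtain ⟨-, hp'⟩ := piece hcon hb S'
  have hBu : Bu ≤ (S' : Subgroup G) := fun x hx => hS' ⟨⟨x, hx.2⟩, hT hx, rfl⟩
  set h := (c : G) * g with hh
  have hBh : B.map (MulAut.conj h).toMonoidHom ≤ (S' : Subgroup G) := by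
    rintro _ ⟨x, hx, rfl⟩
    refine hS' ⟨c * ⟨g * x * g⁻¹, hBg x hx⟩ * c⁻¹, ?_, by simp [hh, mul_assoc]⟩
    rw [← hc, Sylow.coe_subgroup_smul, SetLike.mem_coe, Subgroup.mem_pointwise_smul_iff_inv_smul_mem, MulAut.smul_def,
      MulAut.conj_inv_apply]
    have e : c⁻¹ * (c * (⟨g * x * g⁻¹, hBg x hx⟩ : L) * c⁻¹) * c = ⟨g * x * g⁻¹, hBg x hx⟩ := by group
    rw [e]
    exact hT₀ ⟨x, hx, rfl⟩
  have hr : ¬ PRankLE 2 1 ↥B := not_rank_one hA (by omega) hAB
  have e1 : (Wf (S : Subgroup G)).map (MulAut.conj h).toMonoidHom = Wf (S : Subgroup G) := by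
    calc _ = (Wf B).map (MulAut.conj h).toMonoidHom := by rw [(hpS B inf_le_left hr).1]
      _ = Wf (S' : Subgroup G) := by
        rw [map_Wf_eq, (hp' _ hBh (not_rank_one (isEA_map hA h)
          (by rw [Subgroup.card_map_of_injective (MulAut.conj h).injective]; omega) (Subgroup.map_mono hAB))).1]
      _ = Wf Bu := (hp' Bu hBu (not_rank_one hA₂ (by omega) hAB₂)).1.symm
      _ = _ := (hpS Bu inf_le_left (not_rank_one hA₂ (by omega) hAB₂)).1
  have h1 : h ∈ normalizer (Wf (S : Subgroup G) : Set G) :=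
    CfsgLib.Bender.TwoClosed.mem_normalizer_of_conj fun x hx => e1.le ⟨x, hx, rfl⟩
  have h2 := cent_le hcon hb hu hu2 c.2
  have h3 := Subgroup.mul_mem _ (Subgroup.inv_mem _ h2) h1
  rwa [hh, inv_mul_cancel_left] at h3

/-- All cores are trivial. -/
theorem core_eq_bot (hA : CfsgLib.Bender.Assembly.GoodAll.{u}) (hO : oddCore G = ⊥) :
    ∀ t : G, orderOf t = 2 → centralizerPPrimeCore 2 t = ⊥ := by
  haveI : Fact (Nat.Prime 2) := ⟨Nat.prime_two⟩
  obtain ⟨hodd, hpS⟩ := piece hcon hb S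
  set W := Wf (S : Subgroup G) with hW
  set H := normalizer (W : Set G) with hH
  have hSH : (S : Subgroup G) ≤ H :=
    Subgroup.le_normalizer.trans (hpS _ le_rfl (not_rank_one hb.ea (by have := hb.eight; omega) hb.le)).2
  have hW1 : W = ⊥ := by
    by_cases htop : H = ⊤
    · haveI : W.Normal := Subgroup.normalizer_eq_top_iff.mp htop
      exact le_bot_iff.mp (hO ▸ CfsgLib.le_oddCore hodd)
    have key : ∀ y ∈ H, orderOf y = 2 → ∃ k ∈ H, k * y * k⁻¹ ∈ (S : Subgroup G) := by
      intro y hy hy2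
      have hpu : IsPGroup 2 (Subgroup.zpowers (⟨y, hy⟩ : H)) := IsPGroup.of_card (n := 1)
        (by rw [Nat.card_zpowers, Subgroup.orderOf_mk, pow_one]; exact hy2)
      obtain ⟨T, hT⟩ := hpu.exists_le_sylow
      obtain ⟨k, hk⟩ := MulAction.exists_smul_eq H T (S.subtype hSH)
      refine ⟨k, k.2, ?_⟩
      have h1 : k * ⟨y, hy⟩ * k⁻¹ ∈ (S.subtype hSH : Subgroup H) := by
        rw [← hk, Sylow.coe_subgroup_smul, Subgroup.mem_pointwise_smul_iff_inv_smul_mem, MulAut.smul_def,
          MulAut.conj_inv_apply]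
        simpa [mul_assoc] using hT (Subgroup.mem_zpowers _)
      exact h1
    have hse : IsStronglyEmbedded H := by
      refine ⟨htop, ?_, fun g hg => Nat.not_even_iff_odd.mp fun hev => hg ?_⟩
      · obtain ⟨a, ha⟩ := exists_prime_orderOf_dvd_card' (G := E) 2 (by
          obtain ⟨k, hk⟩ := IsPGroup.iff_card.mp (S.isPGroup'.to_le hb.le : IsPGroup 2 E)
          rw [hk]
          exact dvd_pow_self 2 fun e => by
            have := hb.eight
            rw [hk, e] at this
            norm_num at this)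
        rw [even_iff_two_dvd, ← ha, ← Subgroup.orderOf_coe]
        exact Subgroup.orderOf_dvd_natCard H (hSH (hb.le a.2))
      obtain ⟨v, hv⟩ := exists_prime_orderOf_dvd_card' (G := ↥(H ⊓ H.map (MulAut.conj g).toMonoidHom)) 2
        (even_iff_two_dvd.mp hev)
      obtain ⟨y, hy, hye⟩ := v.2.2
      have hy' : g * y * g⁻¹ = v.1 := by rw [← hye]; rfl
      have hv2 : orderOf (v : G) = 2 := (Subgroup.orderOf_coe v).trans hv
      have hy2 : orderOf y = 2 := by rw [← hv2, ← hy', CfsgLib.Involutions.orderOf_conj]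
      obtain ⟨k, hk, hka⟩ := key v v.2.1 hv2
      obtain ⟨j, hj, hja⟩ := key y hy hy2
      have h2 := mem_of_conj hcon hb (g := k * g * j⁻¹) hja (by rw [CfsgLib.Involutions.orderOf_conj]; exact hy2) (by
        rw [show k * g * j⁻¹ * (j * y * j⁻¹) * (k * g * j⁻¹)⁻¹ = k * (g * y * g⁻¹) * k⁻¹ by group, hy']
        exact hka)
      rw [show g = k⁻¹ * (k * g * j⁻¹) * j by group]
      exact H.mul_mem (H.mul_mem (H.inv_mem hk) h2) hj
    haveI : (W.subgroupOf H).Normal := Subgroup.normal_in_normalizer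
    have h1 : W.subgroupOf H ≤ oddCore H := CfsgLib.le_oddCore (by
      rwa [Nat.card_congr (Subgroup.subgroupOfEquivOfLe Subgroup.le_normalizer).toEquiv])
    have h2 := (Subgroup.map_mono (f := H.subtype) h1).trans (CfsgLib.Bender.Assembly.oddCore_le hA hse)
    rw [Subgroup.map_subgroupOf_eq_of_le Subgroup.le_normalizer, hO] at h2
    exact le_bot_iff.mp h2
  intro t ht
  obtain ⟨T, hT⟩ := (IsPGroup.of_card (n := 1) (by rw [Nat.card_zpowers, pow_one]; exact ht) :
    IsPGroup 2 (Subgroup.zpowers t)).exists_le_sylow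
  obtain ⟨g, hg⟩ := MulAction.exists_smul_eq G T S
  have h1 : centralizerPPrimeCore 2 (g * t * g⁻¹) ≤ ⊥ := hW1 ▸ core_le hcon hb (by
    rw [← hg, mem_smul]
    simpa [mul_assoc] using hT (Subgroup.mem_zpowers t)) (by rw [CfsgLib.Involutions.orderOf_conj]; exact ht)
  rw [← CfsgLib.SolvSF.map_centralizerPPrimeCore', le_bot_iff] at h1
  exact (Subgroup.map_eq_bot_iff_of_injective _ (MulAut.conj g).injective).mp h1

end CfsgLib.ConstrainedCore
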